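import Cfsg.Agent.H717.Two.Asm
import Cfsg.Agent.H749.TwoO8m
import Cfsg.Agent.H722.HC.SpFourTwo
import Cfsg.Agent.H651.Two.Spor
import Cfsg.Agent.H368.Two.Tits
import Cfsg.Agent.S0000

/-!
# `FactTwo` (helper53)

**`factTwo`**: every finite nonabelian simple group `S` and every prime `p` dividing its order satisfy `TwoOr p S`.
-/

set_option autoImplicit false

namespace Cfsg.Agent.H53.Two

open Cfsg Cfsg.Agent.H596.OneFacts Cfsg.Agent.H717.Two

universe u

theorem row_spor (hK0 : H995.CopEngine.AllKnown.{0}) : Row.{u} IsSporadicGroup := by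
  intro S _ _ _ _ h p hp hd _
  have : Fact p.Prime := ⟨hp⟩
  exact H651.Two.Spor.two_sporadic hK0 h hd

theorem row_tits : Row.{u} Lie.IsoTits := by
  intro S _ _ _ _ h p hp hd _
  have : Fact p.Prime := ⟨hp⟩
  exact H368.Two.Tits.two_tits h hd

theorem row_psp : Row.{u} IsPSp := fun S _ _ _ _ h _ hp hd hn =>
  Or.inl (H749.Two.two_psp H722.HC.sp4Two S h hp hd hn)

theorem row_minus : Row.{u} IsPOmegaMinus := fun S _ _ _ _ h _ hp hd hn =>
  Or.inl (H749.Two.two_omega_minus' S h hp hd hn)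

/-- **`FactTwo`** -/
theorem factTwo : FactTwo.{u} :=
  factTwo_of (fun _ _ _ _ => S0000.result) row_psp row_minus row_tits (row_spor fun _ _ _ _ => S0000.result)

end Cfsg.Agent.H53.Two
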